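import Cfsg.Agent.H163.Steinberg
import Cfsg.Agent.H167.AltBldg
import Cfsg.Agent.Prune
set_option linter.all false
prune_inst 0x7f00000000000000000000000000000000000000000000000000000000000000000000000000000000000000000000000000000000000000000000000000000000000000000000000000000000000000003fffffffffffffffffffffffffffbeffbdffffffff
open scoped Cfsg.Agent.FastGrp

/-!
# The Steinberg character of a finite split (B,N)-pair as an alternating sum (helper732)

`exists_alt_of_split` : `∑ K, (-1) ^ |K| * 1_{Q K}^G` is irreducible, `Q univ = ⊤`, the `Q K` (the parabolic subgroups)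
have index prime to `p` and are proper for `K ≠ univ`.
-/

set_option autoImplicit false

namespace Cfsg.Agent.H732.PB

open Cfsg Cfsg.Agent Cfsg.Agent.Tits.Core Cfsg.Agent.Tits.Core.Bldg Cfsg.Agent.Tits.OfBN Cfsg.Agent.FixBN

universe u

/-- A family of subgroups of index prime to `p`, whose alternating sum of permutation characters is irreducible. -/
def HasAlt (p : ℕ) (K : Type u) [Group K] : Prop :=
  ∃ (I : Type u) (_ : Fintype I) (_ : DecidableEq I) (_ : Nonempty I) (Q : Finset I → Subgroup K),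
    IsIrrCharacter K (fun g => ∑ J ∈ (Finset.univ : Finset I).powerset, (-1 : ℂ) ^ J.card *
      fixedPointCharacter (Q J) g) ∧ Q Finset.univ = ⊤ ∧ (∀ J, J ≠ Finset.univ → Q J ≠ ⊤) ∧
      ∀ J, ¬ p ∣ (Q J).index

theorem hasAlt_of_split {K : Type u} [Group K] [Finite K] {P : Cfsg.BNPair K} {p : ℕ} [Fact p.Prime]
    {U : Subgroup K} (h : Split P p U) (hne : P.S.Nonempty) : HasAlt p K := by
  classical
  have hN : ((P.B ⊓ P.N).subgroupOf P.N).Normal := normal_subgroupOf P
  obtain ⟨M, cs, hcs⟩ := S0320.result P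
  have : Fintype P.S := Fintype.ofFinite _
  have : Fintype (K ⧸ P.B) := Fintype.ofFinite _
  have hC : Tits.OppRes.Cox cs := inferInstance
  obtain ⟨s₀, hs₀⟩ := hne
  set Δ := bldg P (Equiv.refl P.S) cs hcs with hΔ
  set c : K ⧸ P.B := QuotientGroup.mk 1 with hc
  have hiso : ∀ (g : K) (x y : K ⧸ P.B), Δ.δ (g • x) (g • y) = Δ.δ x y := fun g x y => dist_smul P g x y
  have htr : ∀ x y x' y', Δ.δ x y = Δ.δ x' y' → ∃ g : K, g • x = x' ∧ g • y = y' :=
    fun x y x' y' hd => Cfsg.Agent.Tits.OfBN.trans P x y x' y' hd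
  -- the parabolic subgroups
  let Q : Finset P.S → Subgroup K := fun J =>
    { carrier := {g | Δ.δ c (g • c) ∈ WJ cs (J : Set P.S)}
      one_mem' := by
        show Δ.δ c ((1 : K) • c) ∈ WJ cs (J : Set P.S)
        rw [one_smul, (Δ.eq_one c c).2 rfl]
        exact one_mem _
      mul_mem' := by
        intro a b ha hb
        show Δ.δ c ((a * b) • c) ∈ WJ cs (J : Set P.S)
        have h1 : (a • c) ∈ Δ.Res (J : Set P.S) c := Δ.mem_Res.2 ha
        have h2 : (a • b • c) ∈ Δ.Res (J : Set P.S) (a • c) := by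
          rw [Δ.mem_Res, hiso]; exact hb
        rw [mul_smul]
        exact Δ.mem_Res.1 (Δ.mem_Res_trans h1 h2)
      inv_mem' := by
        intro a ha
        show Δ.δ c (a⁻¹ • c) ∈ WJ cs (J : Set P.S)
        rw [← hiso a, smul_inv_smul]
        have h1 : (a • c) ∈ Δ.Res (J : Set P.S) c := Δ.mem_Res.2 ha
        exact Δ.mem_Res.1 (Δ.mem_Res_symm h1) }
  have hQ : ∀ (J : Finset P.S) (g : K), g ∈ Q J ↔ Δ.δ c (g • c) ∈ WJ cs (J : Set P.S) := fun J g => Iff.rfl
  -- the apartment
  let a : WP P → K ⧸ P.B := fun w => QuotientGroup.mk ((w.out : P.N) : K)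
  have ha : ∀ v w, Δ.δ (a v) (a w) = v⁻¹ * w := by
    intro v w
    show dist P (QuotientGroup.mk ((v.out : P.N) : K)) (QuotientGroup.mk ((w.out : P.N) : K)) = _
    rw [dist_mk]
    have h1 : ((v.out : P.N) : K)⁻¹ * ((w.out : P.N) : K) = ((v.out⁻¹ * w.out : P.N) : K) := by push_cast; rfl
    rw [h1, wt_of_mem P (n := v.out⁻¹ * w.out) (LieExceptional.BNPairCore.self_mem_C _), QuotientGroup.mk_mul,
      QuotientGroup.mk_inv, QuotientGroup.out_eq', QuotientGroup.out_eq']
  obtain ⟨h1, -⟩ := H167.AltBldg.exists_char_alt Δ hiso htr a ha c Q hQ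
  refine ⟨P.S, inferInstance, inferInstance, ⟨⟨s₀, hs₀⟩⟩, Q, h1, ?_, ?_, ?_⟩
  · rw [eq_top_iff]
    intro g _
    rw [hQ, Finset.coe_univ]
    have : WJ cs (Set.univ : Set P.S) = ⊤ := by
      unfold WJ
      rw [Set.image_univ]
      exact cs.subgroup_closure_range_simple
    rw [this]
    exact Subgroup.mem_top _
  · intro J hJ htop
    obtain ⟨i, hi⟩ : ∃ i, i ∉ J := by
      by_contra hcon
      push Not at hcon
      exact hJ (Finset.eq_univ_iff_forall.2 hcon)
    have hth : Δ.Thick := thick P (Equiv.refl P.S) cs hcs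
    obtain ⟨z, -, -, hz, -⟩ := hth c i
    obtain ⟨g, hg⟩ := MulAction.exists_smul_eq K c z
    have h2 : g ∈ Q J := htop ▸ Subgroup.mem_top g
    rw [hQ, hg, hz] at h2
    apply hi
    have h3 := hC.descent_mem (J : Set P.S) _ h2 i (by
      rw [cs.simple_mul_simple_self, cs.length_one, cs.length_simple]
      exact Nat.one_pos)
    exact h3
  · intro J hd
    have hB : P.B ≤ Q J := by
      intro b hb
      rw [hQ]
      have : b • c = c := by
        rw [hc]
        show (QuotientGroup.mk (b * 1) : K ⧸ P.B) = QuotientGroup.mk 1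
        rw [eq_comm, QuotientGroup.eq]
        simpa using hb
      rw [this, (Δ.eq_one c c).2 rfl]
      exact one_mem _
    have h2 : p ∣ P.B.index := hd.trans (Subgroup.index_dvd_of_le hB)
    have h3 := FixBN.OfBN.card_modEq h
    rw [Subgroup.index] at h2
    have h4 := h3.symm.trans ((Nat.modEq_zero_iff_dvd).2 h2)
    have h5 := (Nat.modEq_zero_iff_dvd).1 h4
    exact (Fact.out : p.Prime).one_lt.ne' (Nat.dvd_one.1 h5)

theorem hasAlt_of_hasSplit {K : Type u} [Group K] [Finite K] {p : ℕ} [Fact p.Prime] (h : HasSplit p K) :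
    HasAlt p K := by
  obtain ⟨P, U, hne, hU⟩ := h
  exact hasAlt_of_split hU hne

end Cfsg.Agent.H732.PB
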